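import Mathlib
import Groth.Agent.DvrDom.Basic
import Groth.Agent.UnivClosed.Generic
import Groth.Agent.ImmDescent.Basic

/-!
# Discrete valuative criteria tested on a dense piece
-/

set_option autoImplicit false
universe u

open CategoryTheory AlgebraicGeometry IsLocalRing

namespace Groth.Agent.DvrDense

/-- A discrete valuation ring extends to a finitely generated field extension. -/
theorem exists_dvr_extension {F L : Type u} [Field F] [Field L] [Algebra F L]
    [Algebra.EssFiniteType F L] (A : ValuationSubring F) (hA : IsDiscreteValuationRing A) :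
    ∃ O : ValuationSubring L, IsDiscreteValuationRing O ∧ O.comap (algebraMap F L) = A := by
  classical
  obtain ⟨G, hG⟩ := IntermediateField.fg_top (F := F) (E := L)
  letI : Algebra A L := ((algebraMap F L).comp A.subtype).toAlgebra
  have hclos : Subfield.closure (Set.range (algebraMap A L) ∪ (G : Set L)) = ⊤ := by
    rw [eq_top_iff]
    intro x _
    have h1 : x ∈ (IntermediateField.adjoin F (G : Set L)).toSubfield := hG ▸ trivial
    rw [IntermediateField.adjoin_toSubfield] at h1
    refine Subfield.closure_le.2 ?_ h1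
    rintro y (⟨a, rfl⟩ | hy)
    · obtain ⟨b, c, -, rfl⟩ := IsFractionRing.div_surjective A a
      rw [map_div₀]
      exact div_mem (Subfield.subset_closure (Or.inl ⟨b, rfl⟩))
        (Subfield.subset_closure (Or.inl ⟨c, rfl⟩))
    · exact Subfield.subset_closure (Or.inr hy)
  obtain ⟨O, hO, hAO, hlt⟩ := Groth.Agent.DvrDom.exists_dvr A
    (IsDiscreteValuationRing.not_isField A)
    ((algebraMap F L).injective.comp Subtype.val_injective) G hclos
  refine ⟨O, hO, ?_⟩
  ext x
  rw [ValuationSubring.mem_comap]
  refine ⟨fun hx => ?_, fun hx => hAO ⟨x, hx⟩⟩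
  by_contra h
  have hinv : x⁻¹ ∈ A := (A.mem_or_inv_mem x).resolve_left h
  have hx0 : x ≠ 0 := fun h0 => h (h0 ▸ zero_mem _)
  have hm : (⟨x⁻¹, hinv⟩ : A) ∈ maximalIdeal A := by
    intro hu
    obtain ⟨v, hv⟩ := hu.exists_right_inv
    have h2 : x⁻¹ * (v : F) = 1 := congrArg Subtype.val hv
    exact h ((show x = (v : F) by field_simp at h2; exact h2.symm) ▸ v.2)
  have h3 := hlt _ hm
  have h4 : O.valuation (algebraMap F L x) ≤ 1 := (O.valuation_le_one_iff _).2 hx
  have h5 : O.valuation (algebraMap F L x⁻¹) * O.valuation (algebraMap F L x) = 1 := by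
    rw [← map_mul, ← map_mul, inv_mul_cancel₀ hx0, map_one, map_one]
  have h6 : O.valuation (algebraMap F L x⁻¹) * O.valuation (algebraMap F L x) < 1 :=
    (mul_le_of_le_one_right zero_le' h4).trans_lt h3
  rw [h5] at h6
  exact lt_irrefl _ h6

variable {X S U : Scheme.{u}} (h : U ⟶ X)

/-- Residue extensions of a morphism locally of finite type are finitely generated. -/
theorem residueFieldMap_essFiniteType [LocallyOfFiniteType h] (u : U) :
    (h.residueFieldMap u).hom.EssFiniteType := by
  have h1 : (h.stalkMap u).hom.EssFiniteType := LocallyOfFiniteType.stalkMap h u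
  exact RingHom.EssFiniteType.residueFieldMap (f := (h.stalkMap u).hom) h1

/-- Generic points of components are hit. -/
theorem exists_preimage_generic [QuasiCompact h] (hd : DenseRange h) (η : X)
    (hη : closure {η} ∈ irreducibleComponents (X : Type u)) : ∃ u : U, h u = η := by
  obtain ⟨u, hu⟩ := Groth.Agent.ImmDescent.exists_specializes_of_mem_closure_range h (hd η)
  have h1 : closure {η} ⊆ closure {h u} := (specializes_iff_closure_subset.1 hu)
  have h2 := hη.2 (isIrreducible_singleton.closure) h1
  exact ⟨u, (hu.antisymm (specializes_iff_closure_subset.2 h2)).eq⟩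

/-- A lift over an extension of discrete valuation rings descends. -/
theorem exists_lift_of_extension (f : X ⟶ S) (u : U) (A : ValuationSubring (X.residueField (h u)))
    (O : ValuationSubring (U.residueField u))
    (hAO : O.comap (h.residueFieldMap u).hom = A)
    (y : Spec (CommRingCat.of A) ⟶ S)
    (hy : Spec.map (CommRingCat.ofHom A.subtype) ≫ y = X.fromSpecResidueField (h u) ≫ f)
    (i : CommRingCat.of A ⟶ CommRingCat.of O) [IsLocalHom i.hom]
    (hi : i ≫ CommRingCat.ofHom O.subtype = CommRingCat.ofHom A.subtype ≫ h.residueFieldMap u)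
    (l : Spec (CommRingCat.of O) ⟶ X) (hlf : l ≫ f = Spec.map i ≫ y)
    (hlK : Spec.map (CommRingCat.ofHom O.subtype) ≫ l = U.fromSpecResidueField u ≫ h) :
    ∃ l' : Spec (CommRingCat.of A) ⟶ X, l' ≫ f = y ∧
      Spec.map (CommRingCat.ofHom A.subtype) ≫ l' = X.fromSpecResidueField (h u) := by
  obtain ⟨Us, hUs, hsU, -⟩ := exists_isAffineOpen_mem_and_subset
    (U := (⊤ : S.Opens)) (x := y (closedPoint A)) trivial
  have hlU : l (closedPoint O) ∈ f ⁻¹ᵁ Us := by
    change f (l (closedPoint O)) ∈ Us
    rw [← Scheme.Hom.comp_apply, hlf, Scheme.Hom.comp_apply]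
    rw [show Spec.map i (closedPoint O) = closedPoint A from IsLocalRing.comap_closedPoint i.hom]
    exact hsU
  obtain ⟨W, hW, hzW, hWU⟩ := exists_isAffineOpen_mem_and_subset hlU
  obtain ⟨β, hβ⟩ := Groth.Agent.UnivClosed.exists_spec_map_eq (O := CommRingCat.of O) hW l hzW
  have hηW : h u ∈ W := by
    have e1 : (U.fromSpecResidueField u ≫ h) (closedPoint (U.residueField u)) = h u := by
      rw [Scheme.Hom.comp_apply, Scheme.fromSpecResidueField_apply]
    rw [← e1, ← hlK, ← hβ, Scheme.Hom.comp_apply, Scheme.Hom.comp_apply]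
    exact hW.range_fromSpec.le (Set.mem_range_self _)
  have hβ' : β ≫ CommRingCat.ofHom O.subtype = X.evaluation W (h u) hηW ≫ h.residueFieldMap u := by
    apply Groth.Agent.UnivClosed.spec_map_inj hW
    rw [Spec.map_comp, Category.assoc, hβ, hlK, Spec.map_comp, Category.assoc,
      ← Groth.Agent.UnivClosed.fromSpecResidueField_eq hW _ hηW,
      Scheme.Hom.SpecMap_residueFieldMap_fromSpecResidueField]
  have hmem : ∀ c, X.evaluation W (h u) hηW c ∈ A := fun c => by
    rw [← hAO, ValuationSubring.mem_comap]
    have h1 := congrArg (fun g : Γ(X, W) ⟶ U.residueField u => g c) hβ'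
    exact (show (h.residueFieldMap u) (X.evaluation W (h u) hηW c) = ((β c : O) : U.residueField u)
      from h1.symm) ▸ (β c).2
  let γ : Γ(X, W) ⟶ CommRingCat.of A :=
    CommRingCat.ofHom ((X.evaluation W (h u) hηW).hom.codRestrict A.toSubring hmem)
  have hfac : Spec.map (CommRingCat.ofHom A.subtype) ≫ Spec.map γ ≫ hW.fromSpec =
      X.fromSpecResidueField (h u) := by
    rw [← Spec.map_comp_assoc,
      show γ ≫ CommRingCat.ofHom A.subtype = X.evaluation W (h u) hηW from rfl,
      ← Groth.Agent.UnivClosed.fromSpecResidueField_eq hW _ hηW]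
  refine ⟨Spec.map γ ≫ hW.fromSpec, ?_, hfac⟩
  refine Groth.Agent.UnivClosed.ext_of_mem (O := CommRingCat.of A) hUs _ _ ?_ hsU
    (CommRingCat.ofHom A.subtype) Subtype.val_injective ?_
  · rw [Category.assoc, Scheme.Hom.comp_apply, Scheme.Hom.comp_apply]
    exact hWU (hW.range_fromSpec.le (Set.mem_range_self _))
  · rw [hy, ← hfac]
    simp only [Category.assoc]

/-- The inclusion of valuation rings. -/
theorem exists_incl (u : U) (A : ValuationSubring (X.residueField (h u)))
    (O : ValuationSubring (U.residueField u)) (hAO : O.comap (h.residueFieldMap u).hom = A) :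
    ∃ i : CommRingCat.of A ⟶ CommRingCat.of O, IsLocalHom i.hom ∧
      i ≫ CommRingCat.ofHom O.subtype = CommRingCat.ofHom A.subtype ≫ h.residueFieldMap u := by
  have hmem : ∀ a : A, ((h.residueFieldMap u).hom.comp A.subtype) a ∈ O.toSubring := fun a => by
    have h1 : (a : X.residueField (h u)) ∈ O.comap (h.residueFieldMap u).hom := hAO ▸ a.2
    exact h1
  refine ⟨CommRingCat.ofHom (((h.residueFieldMap u).hom.comp A.subtype).codRestrict _ hmem), ⟨?_⟩, rfl⟩
  intro a ha
  obtain ⟨v, hv⟩ := ha.exists_right_inv
  have h2 : (h.residueFieldMap u).hom (a : X.residueField (h u)) * (v : U.residueField u) = 1 :=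
    congrArg Subtype.val hv
  have ha0 : (a : X.residueField (h u)) ≠ 0 := fun h0 => by
    rw [h0, map_zero, zero_mul] at h2; exact zero_ne_one h2
  have h3 : (a : X.residueField (h u))⁻¹ ∈ A := by
    refine SetLike.ext_iff.1 hAO _ |>.1 ?_
    rw [ValuationSubring.mem_comap, map_inv₀, ← eq_inv_of_mul_eq_one_right h2]
    exact v.2
  exact IsUnit.of_mul_eq_one ⟨_, h3⟩ (Subtype.ext (mul_inv_cancel₀ ha0))

/-- Comparison of the fraction ring of a valuation subring with its field. -/
theorem exists_fractionRing_comparison (u : U) (O : ValuationSubring (U.residueField u)) :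
    ∃ e : CommRingCat.of (FractionRing O) ≅ U.residueField u,
      CommRingCat.ofHom (algebraMap O (FractionRing O)) ≫ e.hom = CommRingCat.ofHom O.subtype := by
  let e := (FractionRing.algEquiv O (U.residueField u)).toRingEquiv
  refine ⟨e.toCommRingCatIso, ?_⟩
  ext a
  exact (FractionRing.algEquiv O (U.residueField u)).commutes a

end Groth.Agent.DvrDense
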